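import Groth.Agent.QCFilt72.Colim
import Groth.Agent.QC70.Hom
import Groth.Agent.QCqs72.Basic
import Groth.Agent.Props58.LocFree.FP
import Groth.Prelude.Def_QCohCat
import Mathlib.Algebra.Category.ModuleCat.FilteredColimits
import Mathlib.CategoryTheory.Presentable.Finite

set_option autoImplicit false
set_option backward.isDefEq.respectTransparency.types false

/-! Finitely presented quasi-coherent modules and filtered colimits. -/

noncomputable section

universe u

open CategoryTheory Limits AlgebraicGeometry TopologicalSpace Opposite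
open Groth.Agent.QC70

namespace Groth.Agent.QCFilt72

/-- A module through which maps into filtered colimits factor is finitely presented. -/
theorem finitePresentation_of_factor {R : CommRingCat.{u}} (M : ModuleCat.{u} R)
    (h : ∀ (J : Type u) [SmallCategory J] [IsFiltered J] (D : J ⥤ ModuleCat.{u} R) (c : Cocone D),
      IsColimit c → ∀ φ : M ⟶ c.pt, ∃ (j : J) (ψ : M ⟶ D.obj j), ψ ≫ c.ι.app j = φ) :
    Module.FinitePresentation R M := by
  classical
  have hfin : Module.Finite R M := by
    let D : Finset M ⥤ ModuleCat.{u} R :=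
      { obj := fun S => ModuleCat.of R (Submodule.span R (S : Set M))
        map := fun {S T} f => ModuleCat.ofHom
          (Submodule.inclusion (Submodule.span_mono (Finset.coe_subset.mpr (leOfHom f))))
        map_id := fun S => rfl
        map_comp := fun f g => rfl }
    let c : Cocone D :=
      { pt := M
        ι := { app := fun S => ModuleCat.ofHom (Submodule.span R (S : Set M)).subtype
               naturality := fun S T f => rfl } }
    have hc : IsColimit c := by
      refine isColimitOfReflects (forget (ModuleCat.{u} R)) ?_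
      refine Types.FilteredColimit.isColimitOf' _ _ (fun x => ?_) fun i x y hxy => ?_
      · exact ⟨{x}, ⟨x, Submodule.subset_span (Finset.mem_coe.mpr (Finset.mem_singleton_self x))⟩, rfl⟩
      · refine ⟨i, 𝟙 i, ?_⟩
        rw [show x = y from Subtype.ext hxy]
    obtain ⟨S, ψ, hψ⟩ := h (Finset M) D c hc (𝟙 M)
    refine ⟨⟨S, eq_top_iff.mpr fun x _ => ?_⟩⟩
    have hx : ((ψ.hom x : Submodule.span R (S : Set M)) : M) = x := congr(($hψ).hom x)
    rw [← hx]
    exact (ψ.hom x).2
  obtain ⟨n, p, hp⟩ := Module.Finite.exists_fin' R M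
  let I : Finset (LinearMap.ker p) → Submodule R (Fin n → R) := fun S =>
    Submodule.span R ((fun z : LinearMap.ker p => (z : Fin n → R)) '' (S : Set (LinearMap.ker p)))
  have hI : ∀ S, I S ≤ LinearMap.ker p := fun S => Submodule.span_le.mpr (by
    rintro _ ⟨z, -, rfl⟩; exact z.2)
  let D : Finset (LinearMap.ker p) ⥤ ModuleCat.{u} R :=
    { obj := fun S => ModuleCat.of R ((Fin n → R) ⧸ I S)
      map := fun {S T} f => ModuleCat.ofHom (Submodule.factor
        (Submodule.span_mono (Set.image_mono (Finset.coe_subset.mpr (leOfHom f)))))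
      map_id := fun S => by ext x; rfl
      map_comp := fun f g => by ext x; rfl }
  let c : Cocone D :=
    { pt := M
      ι := { app := fun S => ModuleCat.ofHom ((I S).liftQ p (hI S))
             naturality := fun S T f => by ext x; rfl } }
  have hc : IsColimit c := by
    refine isColimitOfReflects (forget (ModuleCat.{u} R)) ?_
    refine Types.FilteredColimit.isColimitOf' _ _ (fun x => ?_) fun i x y hxy => ?_
    · obtain ⟨a, rfl⟩ := hp x
      exact ⟨∅, Submodule.Quotient.mk a, rfl⟩
    · obtain ⟨a, rfl⟩ := Submodule.Quotient.mk_surjective _ x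
      obtain ⟨b, rfl⟩ := Submodule.Quotient.mk_surjective _ y
      have hab : a - b ∈ LinearMap.ker p := by
        rw [LinearMap.mem_ker, map_sub, sub_eq_zero]; exact hxy
      refine ⟨insert ⟨a - b, hab⟩ i, homOfLE (Finset.subset_insert _ _), ?_⟩
      change (Submodule.Quotient.mk a : (Fin n → R) ⧸ I _) = Submodule.Quotient.mk b
      rw [Submodule.Quotient.eq]
      exact Submodule.subset_span ⟨⟨a - b, hab⟩, Finset.mem_insert_self _ _, rfl⟩
  obtain ⟨S, ψ, hψ⟩ := h _ D c hc (𝟙 M)
  have : Module.FinitePresentation R ((Fin n → R) ⧸ I S) := by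
    refine Module.finitePresentation_of_surjective (I S).mkQ (I S).mkQ_surjective ?_
    rw [Submodule.ker_mkQ]
    exact Submodule.fg_span (S.finite_toSet.image _)
  let π : ((Fin n → R) ⧸ I S) →ₗ[R] M := (I S).liftQ p (hI S)
  have hπψ : ∀ x : M, π (ψ.hom x) = x := fun x => congr(($hψ).hom x)
  let σ : M →ₗ[R] ((Fin n → R) ⧸ I S) := ψ.hom
  refine Module.finitePresentation_of_surjective π (fun x => ⟨ψ.hom x, hπψ x⟩) ?_
  have : LinearMap.ker π = LinearMap.range (LinearMap.id - σ.comp π) := by
    ext z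
    constructor
    · intro hz
      exact ⟨z, by simp [LinearMap.mem_ker.mp hz]⟩
    · rintro ⟨w, rfl⟩
      rw [LinearMap.mem_ker, LinearMap.sub_apply, map_sub, LinearMap.id_apply,
        LinearMap.comp_apply, show π (σ (π w)) = π w from hπψ _, sub_self]
  rw [this]
  exact Submodule.fg_range _

variable {X : Scheme.{u}}

theorem hom_eq_zero_of_sections {Y : Scheme.{u}} {N Q : Y.Modules} [N.IsQuasicoherent] (φ : N ⟶ Q)
    {ι : Type*} (U : ι → Y.Opens) (hU : ∀ i, IsAffineOpen (U i)) (hcov : ⨆ i, U i = ⊤)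
    (h : ∀ i (t : Γ(N, U i)), φ.app (U i) t = 0) : φ = 0 := by
  have hz : ∀ (x : Y) (e : N.presheaf.stalk x), stalkMapM φ x e = 0 := by
    intro x e
    obtain ⟨i, hxi⟩ : ∃ i, x ∈ U i := Opens.mem_iSup.mp (hcov.ge (show x ∈ ⊤ from trivial))
    obtain ⟨f, t, hxf, ht⟩ :=
      stalk_exists_smul (isLocAt_of_isQuasicoherent N (hU i)) (hU i) hxi e
    refine (isUnit_germ hxf).smul_eq_zero.mp ?_
    change Y.presheaf.germ (U i) x hxi f • stalkLinear φ x e = 0
    rw [← LinearMap.map_smul, ht]
    change stalkMapM φ x _ = 0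
    rw [stalkMapM_germ, h i t, germM_zero]
  haveI : Epi (kernel.ι φ) := epi_of_surjective_stalkMapM _ fun x e => by
    let S : ShortComplex Y.Modules := ShortComplex.mk (kernel.ι φ) φ (kernel.condition φ)
    haveI : Mono S.f := (inferInstance : Mono (kernel.ι φ))
    exact stalkMapM_exact S (ShortComplex.exact_of_f_is_kernel _ (kernelIsKernel φ)) x e
      (hz x e)
  rw [← cancel_epi (kernel.ι φ), kernel.condition, comp_zero]


/-- The inclusion of quasi-coherent modules preserves filtered colimits. -/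
theorem isColimit_mapCocone_ι {J : Type u} [SmallCategory J] {D : J ⥤ QCohCat.QCoh X}
    (c : Cocone D) (hc : IsColimit c) :
    Nonempty (IsColimit ((ObjectProperty.ι (QCohCat.isQCoh X)).mapCocone c)) := by
  haveI : ∀ j, ((D ⋙ ObjectProperty.ι (QCohCat.isQCoh X)).obj j).IsQuasicoherent :=
    fun j => (D.obj j).property
  let C := colimit.cocone (D ⋙ ObjectProperty.ι (QCohCat.isQCoh X))
  have hC : C.pt.IsQuasicoherent :=
    isQuasicoherent_colimit (D ⋙ ObjectProperty.ι (QCohCat.isQCoh X))
      (fun j => (D.obj j).property) (colimit.isColimit _)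
  let c' : Cocone D :=
    { pt := ⟨C.pt, hC⟩
      ι := { app := fun j => ObjectProperty.homMk (C.ι.app j)
             naturality := fun i j f => (ObjectProperty.ι _).map_injective (by
               simpa using C.w f) } }
  have hc' : IsColimit c' :=
    isColimitOfReflects (ObjectProperty.ι (QCohCat.isQCoh X))
      ((colimit.isColimit _).ofIsoColimit (Cocone.ext (Iso.refl _) fun j => by simp [c', C]))
  let e := hc'.uniqueUpToIso hc
  exact ⟨(colimit.isColimit _).ofIsoColimit
    ((Cocone.ext (Iso.refl _) fun j => by simp [c', C]) ≪≫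
      (Cocone.functoriality D (ObjectProperty.ι (QCohCat.isQCoh X))).mapIso e)⟩

theorem isCompact_inf_affine [QuasiSeparatedSpace X] {U V : X.Opens} (hU : IsAffineOpen U)
    (hV : IsAffineOpen V) : IsCompact ((U ⊓ V : X.Opens) : Set X) :=
  isQuasiSeparated_univ _ _ (Set.subset_univ _) U.2 hU.isCompact (Set.subset_univ _) V.2 hV.isCompact

theorem quasiCompact_fromSpec [QuasiSeparatedSpace X] {U : X.Opens} (hU : IsAffineOpen U) :
    QuasiCompact hU.fromSpec := by
  rw [quasiCompact_iff_forall_isAffineOpen]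
  intro W hW
  rw [hU.fromSpec.isOpenEmbedding.toIsEmbedding.isCompact_iff]
  have h : (hU.fromSpec '' (hU.fromSpec ⁻¹ᵁ W : Set (Spec Γ(X, U)))) = ((W ⊓ U : X.Opens) : Set X) := by
    rw [← Scheme.Hom.coe_image, Scheme.Hom.image_preimage_eq_opensRange_inf, hU.opensRange_fromSpec,
      inf_comm]
  rw [h]
  exact isCompact_inf_affine hW hU

/-- Sections of a finitely presentable quasi-coherent module on affine opens are finitely
presented. -/
theorem finitePresentation_sections_of_isFinitelyPresentable [QuasiSeparatedSpace X]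
    (F : QCohCat.QCoh X) [IsFinitelyPresentable.{u} F] {U : X.Opens} (hU : IsAffineOpen U) :
    Module.FinitePresentation Γ(X, U) Γ(F.obj, U) := by
  haveI : F.obj.IsQuasicoherent := F.property
  haveI := quasiCompact_fromSpec hU
  suffices h : Module.FinitePresentation Γ(X, U) (moduleSpecΓFunctor.obj (specRes F.obj hU)) by
    haveI : Module.FinitePresentation Γ(X, U) Γ(specRes F.obj hU, ⊤) := h
    exact Module.FinitePresentation.of_equiv (Props58.LocFree.specTopEquiv F.obj hU)
  refine finitePresentation_of_factor _ fun J _ _ D c hc φ => ?_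
  let P := Scheme.Modules.pushforward hU.fromSpec
  let adj := Scheme.Modules.restrictAdjunction hU.fromSpec
  let T := tilde.functor Γ(X, U) ⋙ P
  have hq : ∀ N : ModuleCat.{u} Γ(X, U), (T.obj N).IsQuasicoherent := fun N => by
    haveI : (tilde N).IsQuasicoherent := inferInstance
    exact QCqs72.isQuasicoherent_pushforward (M := tilde N) hU.fromSpec
  let ct := (tilde.functor Γ(X, U)).mapCocone c
  have hct : IsColimit ct := isColimitOfPreserves (tilde.functor Γ(X, U)) hc
  let D' : J ⥤ QCohCat.QCoh X := ObjectProperty.lift _ (D ⋙ T) fun j => hq _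
  let c' : Cocone D' :=
    { pt := ⟨T.obj c.pt, hq _⟩
      ι := { app := fun j => ObjectProperty.homMk (T.map (c.ι.app j))
             naturality := fun i j f => (ObjectProperty.ι _).map_injective (by
               simpa [D'] using (T.mapCocone c).w f) } }
  have hc0 : Nonempty (IsColimit (T.mapCocone c)) := by
    refine nonempty_isColimit_of_sections _ (fun W hW σ => ?_) (fun W hW j s hs => ?_)
    · exact exists_stage_section hct (V := hU.fromSpec ⁻¹ᵁ W)
        (hU.fromSpec.isCompact_preimage hW.isCompact)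
        (isQuasiSeparated_univ.of_subset (Set.subset_univ _)) σ
    · exact ZClos93.exists_stage_zero hct (V := hU.fromSpec ⁻¹ᵁ W)
        (hU.fromSpec.isCompact_preimage hW.isCompact) s hs
  have hc' : IsColimit c' := isColimitOfReflects (ObjectProperty.ι _)
    (hc0.some.ofIsoColimit (Cocone.ext (Iso.refl _) fun j => by simp [c', T]))
  haveI := (isFinitelyPresentable_iff_preservesFilteredColimitsOfSize (X := F)).mp ‹_›
  haveI : PreservesColimitsOfShape J (coyoneda.obj (op F)) :=
    PreservesFilteredColimitsOfSize.preserves_filtered_colimits J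
  let e := tildeIsoSpecRes F.obj hU
  obtain ⟨j, ψ, hψ⟩ := Types.jointly_surjective_of_isColimit
    (isColimitOfPreserves (coyoneda.obj (op F)) hc')
    (ObjectProperty.homMk (adj.homEquiv _ _ (e.inv ≫ (tilde.functor _).map φ)) : F ⟶ c'.pt)
  have hψ' : ψ.hom ≫ P.map (ct.ι.app j) =
      adj.homEquiv _ _ (e.inv ≫ (tilde.functor _).map φ) := congrArg (fun g => g.hom) hψ
  obtain ⟨φj, hφj⟩ := (tilde.functor Γ(X, U)).map_surjective
    (e.hom ≫ (adj.homEquiv _ _).symm ψ.hom)
  refine ⟨j, φj, (tilde.functor Γ(X, U)).map_injective ?_⟩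
  have h1 := congrArg (adj.homEquiv _ _).symm hψ'
  replace h1 := ((adj.homEquiv_naturality_right_symm ψ.hom (ct.ι.app j)).symm.trans h1).trans
    (Equiv.symm_apply_apply _ _)
  rw [Functor.map_comp, hφj, Category.assoc]
  exact (congrArg (e.hom ≫ ·) h1).trans (e.hom_inv_id_assoc _)

section

variable [CompactSpace X] [QuasiSeparatedSpace X] {F : X.Modules} [F.IsQuasicoherent]
  {J : Type u} [SmallCategory J] [IsFiltered J] {D : J ⥤ X.Modules} {c : Cocone D}

lemma exists_affine_cover : ∃ (n : ℕ) (U : Fin n → X.Opens),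
    (∀ i, IsAffineOpen (U i)) ∧ ⨆ i, U i = ⊤ := by
  obtain ⟨t, ht⟩ := isCompact_univ.elim_finite_subcover
    (fun V : X.affineOpens => ((V.1 : X.Opens) : Set X)) (fun V => V.1.2) fun x _ => by
      have h : x ∈ (⨆ V : X.affineOpens, (V.1 : X.Opens)) :=
        (iSup_affineOpens_eq_top X).ge trivial
      obtain ⟨V, hV⟩ := TopologicalSpace.Opens.mem_iSup.mp h
      exact Set.mem_iUnion.mpr ⟨V, hV⟩
  refine ⟨t.card, fun i => ((t.equivFin.symm i : X.affineOpens) : X.Opens),
    fun i => (t.equivFin.symm i : X.affineOpens).2, eq_top_iff.mpr fun x _ => ?_⟩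
  obtain ⟨V, hV, hxV⟩ := Set.mem_iUnion₂.mp (ht (Set.mem_univ x))
  exact TopologicalSpace.Opens.mem_iSup.mpr ⟨t.equivFin ⟨V, hV⟩, by simpa using hxV⟩

omit [CompactSpace X] [QuasiSeparatedSpace X] in
/-- A linear map on sections which dies in the colimit dies at a stage, for finitely generated
sources. -/
lemma exists_stage_linear_zero (hc : IsColimit c) {W : X.Opens} (hW : IsCompact (W : Set X))
    [Module.Finite Γ(X, W) Γ(F, W)] {i : J} (l : Γ(F, W) →ₗ[Γ(X, W)] Γ(D.obj i, W))
    (h : ∀ t, (c.ι.app i).app W (l t) = 0) :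
    ∃ (k : J) (f : i ⟶ k), ∀ t, (D.map f).app W (l t) = 0 := by
  obtain ⟨m, p, hp⟩ := Module.Finite.exists_fin' Γ(X, W) Γ(F, W)
  have hgen : ∀ a : Fin m, ∃ (k : J) (f : i ⟶ k), (D.map f).app W (l (p (Pi.single a 1))) = 0 :=
    fun a => ZClos93.exists_stage_zero hc hW _ (h _)
  choose k f hk using hgen
  obtain ⟨n, g, φ, hφ⟩ := ZClos93.exists_common i k f
  refine ⟨n, g, fun t => ?_⟩
  obtain ⟨v, rfl⟩ := hp t
  have hall : (appLinear (D.map g) W).comp (l.comp p) = 0 := by
    refine LinearMap.pi_ext' fun a => LinearMap.ext_ring ?_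
    change (D.map g).app W (l (p (Pi.single a 1))) = 0
    rw [← hφ a, Functor.map_comp, ZClos93.app_comp_apply, hk, map_zero]
  exact LinearMap.congr_fun hall v

/-- A morphism into a filtered colimit which is zero comes from a zero morphism at a stage. -/
theorem exists_stage_hom_zero (hc : IsColimit c) [F.IsFiniteType] {i : J} (f : F ⟶ D.obj i)
    (h : f ≫ c.ι.app i = 0) : ∃ (k : J) (g : i ⟶ k), f ≫ D.map g = 0 := by
  obtain ⟨n, U, hU, hcov⟩ := exists_affine_cover (X := X)
  have hloc : ∀ a, ∃ (k : J) (g : i ⟶ k), ∀ t, (D.map g).app (U a) (f.app (U a) t) = 0 := fun a =>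
    haveI := finite_sections_of_isFiniteType F (hU a)
    exists_stage_linear_zero hc (hU a).isCompact (QC70.appLinear f (U a)) fun t => by
      change (c.ι.app i).app _ (f.app _ t) = 0
      rw [← ZClos93.app_comp_apply, h]
      rfl
  choose k g hk using hloc
  obtain ⟨m, γ, φ, hφ⟩ := ZClos93.exists_common i k g
  refine ⟨m, γ, hom_eq_zero_of_sections _ U hU hcov fun a t => ?_⟩
  rw [ZClos93.app_comp_apply, ← hφ a, Functor.map_comp, ZClos93.app_comp_apply, hk, map_zero]

omit [CompactSpace X] [QuasiSeparatedSpace X] [F.IsQuasicoherent] in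
lemma exists_stage_linear (hc : IsColimit c) {W : X.Opens} (hW : IsCompact (W : Set X))
    (hW' : IsQuasiSeparated (W : Set X)) [Module.FinitePresentation Γ(X, W) Γ(F, W)]
    (l : Γ(F, W) →ₗ[Γ(X, W)] Γ(c.pt, W)) :
    ∃ (k : J) (l' : Γ(F, W) →ₗ[Γ(X, W)] Γ(D.obj k, W)),
      ∀ t, (c.ι.app k).app W (l' t) = l t := by
  classical
  obtain ⟨m, p, hp⟩ := Module.Finite.exists_fin' Γ(X, W) Γ(F, W)
  have hK := Module.FinitePresentation.fg_ker p hp
  obtain ⟨S, hS⟩ := hK
  choose k s hs using fun a : Fin m => exists_stage_section hc hW hW' (l (p (Pi.single a 1)))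
  obtain ⟨i, hi⟩ := IsFiltered.sup_objs_exists (Finset.univ.image k)
  let f : ∀ a, k a ⟶ i := fun a => (hi (Finset.mem_image_of_mem k (Finset.mem_univ a))).some
  let q : (Fin m → Γ(X, W)) →ₗ[Γ(X, W)] Γ(D.obj i, W) :=
    Fintype.linearCombination Γ(X, W) fun a => (D.map (f a)).app W (s a)
  have hq : (appLinear (c.ι.app i) W).comp q = l.comp p := by
    refine LinearMap.pi_ext' fun a => LinearMap.ext_ring ?_
    change (c.ι.app i).app W (q (Pi.single a 1)) = l (p (Pi.single a 1))
    rw [show q (Pi.single a 1) = (D.map (f a)).app W (s a) by simp [q],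
      ← ZClos93.app_comp_apply, c.w, hs]
  have hrel : ∀ z : S, ∃ (n : J) (g : i ⟶ n), (D.map g).app W (q z) = 0 := fun z =>
    ZClos93.exists_stage_zero hc hW _ (by
      have hz : p z = 0 := hS.le (Submodule.subset_span z.2)
      exact (LinearMap.congr_fun hq z).trans (by simp [hz]))
  choose n g hn using hrel
  obtain ⟨N, γ, φ, hφ⟩ := ZClos93.exists_common i n g
  have hker : LinearMap.ker p ≤ LinearMap.ker ((appLinear (D.map γ) W).comp q) := by
    rw [← hS, Submodule.span_le]
    intro z hz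
    change (D.map γ).app W (q z) = 0
    rw [← hφ ⟨z, hz⟩, Functor.map_comp, ZClos93.app_comp_apply, hn ⟨z, hz⟩, map_zero]
  refine ⟨N, ((LinearMap.ker p).liftQ _ hker).comp
    (p.quotKerEquivOfSurjective hp).symm.toLinearMap, fun t => ?_⟩
  obtain ⟨v, rfl⟩ := hp t
  have hv : (p.quotKerEquivOfSurjective hp).symm (p v) = Submodule.Quotient.mk v :=
    (LinearEquiv.symm_apply_eq _).mpr rfl
  change (c.ι.app N).app W ((LinearMap.ker p).liftQ _ hker
    ((p.quotKerEquivOfSurjective hp).symm (p v))) = _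
  rw [hv]
  change (c.ι.app N).app W ((D.map γ).app W (q v)) = _
  rw [← ZClos93.app_comp_apply, c.w]
  exact LinearMap.congr_fun hq v

/-- A morphism into a filtered colimit out of a finitely presented module comes from a stage. -/
theorem exists_stage_hom (hc : IsColimit c) [hF : CohB1.IsFP F] (ψ : F ⟶ c.pt) :
    ∃ (k : J) (f : F ⟶ D.obj k), f ≫ c.ι.app k = ψ := by
  classical
  obtain ⟨n, U, hU, hcov⟩ := exists_affine_cover (X := X)
  have hfp : ∀ {W : X.Opens}, IsAffineOpen W → Module.FinitePresentation Γ(X, W) Γ(F, W) :=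
    fun hW => Props58.LocFree.finitePresentation_sections F hW
  have hloc : ∀ a, ∃ (k : J) (l : Γ(F, U a) →ₗ[Γ(X, U a)] Γ(D.obj k, U a)),
      ∀ t, (c.ι.app k).app _ (l t) = ψ.app _ t := fun a =>
    haveI := hfp (hU a)
    exists_stage_linear hc (hU a).isCompact (hU a).isQuasiSeparated (appLinear ψ (U a))
  choose k l hl using hloc
  obtain ⟨i, hi⟩ := IsFiltered.sup_objs_exists (Finset.univ.image k)
  let φ : ∀ a, k a ⟶ i := fun a => (hi (Finset.mem_image_of_mem k (Finset.mem_univ a))).some
  let h : ∀ a, HomOn F (D.obj i) (U a) := fun a =>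
    (HomOn.ofLinear (hU a) (l a)).comp (HomOn.ofHom (D.map (φ a)) (U a))
  have hh : ∀ a (V : X.Opens) (hV : V ≤ U a) (t : Γ(F, V)),
      (c.ι.app i).app V ((h a).app V hV t) = ψ.app V t := by
    intro a V hV t
    refine HomOn.ext_of_affine (hU a) (isLocAt_of_isQuasicoherent F (hU a))
      ((h a).comp (HomOn.ofHom (c.ι.app i) (U a))) (HomOn.ofHom ψ (U a)) ?_ hV t
    refine LinearMap.ext fun s => ?_
    change (c.ι.app i).app _ ((D.map (φ a)).app _
      ((HomOn.ofLinear (hU a) (l a)).app _ le_rfl s)) = ψ.app _ s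
    rw [HomOn.ofLinear_app_self, ← ZClos93.app_comp_apply, c.w, hl]
  have hcovp : ∀ p : Fin n × Fin n, ∃ t : Finset X.affineOpens,
      (∀ W ∈ t, (W : X.Opens) ≤ U p.1 ⊓ U p.2) ∧
        ((U p.1 ⊓ U p.2 : X.Opens) : Set X) ⊆ ⋃ W ∈ t, ((W : X.Opens) : Set X) := by
    intro p
    obtain ⟨t, ht⟩ := (isCompact_inf_affine (hU p.1) (hU p.2)).elim_finite_subcover
      (fun W : {W : X.affineOpens // (W : X.Opens) ≤ U p.1 ⊓ U p.2} => ((W.1 : X.Opens) : Set X))
      (fun W => W.1.1.2) fun x hx => by
        obtain ⟨_, ⟨W, hW, rfl⟩, hxW, hWU⟩ :=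
          X.isBasis_affineOpens.exists_subset_of_mem_open hx (U p.1 ⊓ U p.2).2
        exact Set.mem_iUnion.mpr ⟨⟨⟨W, hW⟩, hWU⟩, hxW⟩
    refine ⟨t.image (·.1), fun W hW => ?_, fun x hx => ?_⟩
    · obtain ⟨W', -, rfl⟩ := Finset.mem_image.mp hW
      exact W'.2
    · obtain ⟨W', hW', hxW'⟩ := Set.mem_iUnion₂.mp (ht hx)
      exact Set.mem_iUnion₂.mpr ⟨W'.1, Finset.mem_image_of_mem _ hW', hxW'⟩
  choose t htle htcov using hcovp
  have hdiff : ∀ w : Σ p : Fin n × Fin n, {W : X.affineOpens // W ∈ t p},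
      ∃ (m : J) (g : i ⟶ m), ∀ s : Γ(F, w.2.1.1),
        (D.map g).app _ ((h w.1.1).app _ ((htle w.1 _ w.2.2).trans inf_le_left) s) =
          (D.map g).app _ ((h w.1.2).app _ ((htle w.1 _ w.2.2).trans inf_le_right) s) := by
    rintro ⟨p, W, hW⟩
    haveI := hfp W.2
    haveI : Module.Finite Γ(X, W.1) Γ(F, W.1) := inferInstance
    obtain ⟨m, g, hg⟩ := exists_stage_linear_zero hc W.2.isCompact
      ((h p.1).app W.1 ((htle p W hW).trans inf_le_left) -
        (h p.2).app W.1 ((htle p W hW).trans inf_le_right)) fun s => by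
      rw [LinearMap.sub_apply, map_sub, hh, hh, sub_self]
    exact ⟨m, g, fun s => by rw [← sub_eq_zero, ← map_sub]; exact hg s⟩
  choose m g hg using hdiff
  obtain ⟨K, γ, χ, hχ⟩ := ZClos93.exists_common i m g
  let H : ∀ a : ULift.{u} (Fin n), HomOn F (D.obj K) (U a.down) := fun a =>
    (h a.down).comp (HomOn.ofHom (D.map γ) (U a.down))
  have hcomp : HomOn.Compatible H := by
    intro a b V ha hb s
    refine section_ext _ _ _ fun x hx => ?_
    obtain ⟨W, hW, hxW⟩ := Set.mem_iUnion₂.mp (htcov (a.down, b.down) ⟨ha hx, hb hx⟩)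
    refine ⟨V ⊓ W.1, inf_le_left, ⟨hx, hxW⟩, ?_⟩
    rw [← (H a).app_res ha inf_le_left, ← (H b).app_res hb inf_le_left]
    have hWa : W.1 ≤ U a.down := (htle (a.down, b.down) W hW).trans inf_le_left
    have hWb : W.1 ≤ U b.down := (htle (a.down, b.down) W hW).trans inf_le_right
    refine HomOn.ext_of_affine W.2 (isLocAt_of_isQuasicoherent F W.2)
      ((H a).mono hWa) ((H b).mono hWb) (LinearMap.ext fun s => ?_) inf_le_right _
    change (D.map γ).app _ ((h a.down).app _ hWa s) = (D.map γ).app _ ((h b.down).app _ hWb s)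
    rw [← hχ ⟨(a.down, b.down), W, hW⟩, Functor.map_comp, ZClos93.app_comp_apply, ZClos93.app_comp_apply]
    exact congrArg _ (hg ⟨(a.down, b.down), W, hW⟩ s)
  have hcov' : ⊤ ≤ ⨆ a : ULift.{u} (Fin n), U a.down :=
    hcov.ge.trans (iSup_le fun a => le_iSup (fun a : ULift.{u} (Fin n) => U a.down) ⟨a⟩)
  let G : F ⟶ D.obj K := (HomOn.glue hcomp hcov').toHom
  have key : ∀ a (s : Γ(F, U a)), (c.ι.app K).app _ (G.app _ s) = ψ.app _ s := by
    intro a s
    rw [HomOn.toHom_app, HomOn.glue_app hcomp hcov' le_top ⟨a⟩ le_rfl]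
    change (c.ι.app K).app _ ((D.map γ).app _ ((h a).app _ le_rfl s)) = _
    rw [← ZClos93.app_comp_apply, c.w, hh]
  exact ⟨K, G, sub_eq_zero.mp (hom_eq_zero_of_sections _ U hU hcov
    fun a s => sub_eq_zero.mpr (key a s))⟩

end

/-- A finitely presented quasi-coherent module is finitely presentable. -/
theorem isFinitelyPresentable_of_isFP [CompactSpace X] [QuasiSeparatedSpace X]
    (F : QCohCat.QCoh X) [hF : CohB1.IsFP F.obj] : IsFinitelyPresentable.{u} F := by
  haveI : F.obj.IsQuasicoherent := F.property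
  haveI : F.obj.IsFiniteType := inferInstance
  rw [isFinitelyPresentable_iff_preservesFilteredColimitsOfSize]
  refine ⟨fun J _ _ => ⟨fun {D} => ⟨fun {c} hc => ?_⟩⟩⟩
  obtain ⟨hc'⟩ := isColimit_mapCocone_ι c hc
  refine ⟨Types.FilteredColimit.isColimitOf' _ _ (fun ψ => ?_) fun i a b hab => ?_⟩
  · obtain ⟨k, f, hf⟩ := exists_stage_hom hc' ψ.hom
    exact ⟨k, ObjectProperty.homMk f, (ObjectProperty.ι _).map_injective hf.symm⟩
  · have hab' : a ≫ c.ι.app i = b ≫ c.ι.app i := hab
    obtain ⟨k, g, hg⟩ := exists_stage_hom_zero hc' (a.hom - b.hom) (by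
      have h2 := congrArg (fun q => q.hom) hab'
      rw [Preadditive.sub_comp, sub_eq_zero]
      exact h2)
    refine ⟨k, g, (ObjectProperty.ι _).map_injective ?_⟩
    rw [Preadditive.sub_comp, sub_eq_zero] at hg
    exact hg

end Groth.Agent.QCFilt72
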