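import Groth.Agent.ZClos93.FiltColim
import Groth.Agent.QC70.Colim
import Mathlib.AlgebraicGeometry.Morphisms.QuasiSeparated

set_option autoImplicit false
set_option backward.isDefEq.respectTransparency.types false

/-! Filtered colimits of modules: sections over quasi-compact quasi-separated opens and a
criterion by sections. -/

noncomputable section

universe u

open CategoryTheory Limits AlgebraicGeometry TopologicalSpace Opposite
open Groth.Agent.QC70

namespace Groth.Agent.QCFilt72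

variable {X : Scheme.{u}} {J : Type u} [SmallCategory J] [IsFiltered J] {D : J ⥤ X.Modules}
  {c : Cocone D}

/-- A section of the colimit over a quasi-compact quasi-separated open comes from a stage. -/
theorem exists_stage_section (hc : IsColimit c) {V : X.Opens} (hV : IsCompact (V : Set X))
    (hV' : IsQuasiSeparated (V : Set X)) (σ : Γ(c.pt, V)) :
    ∃ (j : J) (s : Γ(D.obj j, V)), (c.ι.app j).app V s = σ := by
  classical
  have hloc : ∀ x : (V : Set X), ∃ (k : J) (W : X.Opens) (hW : W ≤ V) (s : Γ(D.obj k, W)),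
      x.1 ∈ W ∧ IsAffineOpen W ∧ (c.ι.app k).app W s = QC70.res c.pt hW σ := by
    intro x
    obtain ⟨k, d, hd⟩ := ZClos93.exists_stage_germ hc x.1 (germM c.pt V x.1 x.2 σ)
    obtain ⟨W, hxW, s, rfl⟩ := germM_exist d
    rw [stalkMapM_germ] at hd
    obtain ⟨W', hxW', i₁, i₂, e⟩ := TopCat.Presheaf.germ_eq c.pt.presheaf x.1 hxW x.2 _ σ hd
    obtain ⟨_, ⟨A, hA, rfl⟩, hxA, hAW⟩ :=
      X.isBasis_affineOpens.exists_subset_of_mem_open hxW' W'.2
    have hAW' : A ≤ W' := hAW
    refine ⟨k, A, hAW'.trans i₂.le, QC70.res _ (hAW'.trans i₁.le) s, hxA, hA, ?_⟩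
    rw [app_res]
    have e' := congrArg (QC70.res c.pt hAW') e
    erw [res_res, res_res] at e'
    exact e'
  choose k W hW s hxW hWaff hs using hloc
  obtain ⟨t, ht⟩ := hV.elim_finite_subcover (fun x => (W x : Set X)) (fun x => (W x).2)
    fun x hx => Set.mem_iUnion.mpr ⟨⟨x, hx⟩, hxW ⟨x, hx⟩⟩
  obtain ⟨m, hm⟩ := IsFiltered.sup_objs_exists (t.image k)
  let φ : ∀ x : t, k x.1 ⟶ m := fun x => (hm (Finset.mem_image_of_mem k x.2)).some
  obtain ⟨u, hu⟩ : ∃ u : ∀ x : t, Γ(D.obj m, W x.1),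
      ∀ x, (c.ι.app m).app _ (u x) = QC70.res c.pt (hW x.1) σ :=
    ⟨fun x => (D.map (φ x)).app _ (s x.1), fun x => by
      rw [← hs x.1, ← ZClos93.app_comp_apply, c.w]⟩
  have hpair : ∀ p : t × t, ∃ (n : J) (f : m ⟶ n),
      (D.map f).app (W p.1.1 ⊓ W p.2.1)
        (QC70.res _ inf_le_left (u p.1) - QC70.res _ inf_le_right (u p.2)) = 0 := by
    intro p
    refine ZClos93.exists_stage_zero hc ?_ _ ?_
    · exact hV' _ _ (hW p.1.1) (W p.1.1).2 (hWaff p.1.1).isCompact (hW p.2.1) (W p.2.1).2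
        (hWaff p.2.1).isCompact
    rw [map_sub, app_res, app_res, hu, hu]
    erw [res_res, res_res]
    exact sub_self _
  choose n f hf using hpair
  obtain ⟨m', g, ψ, hψ⟩ := ZClos93.exists_common m n f
  obtain ⟨s', hs'⟩ := exists_glue (D.obj m') (fun x : t => W x.1) (fun x => hW x.1)
    (fun p hp => by
      obtain ⟨x, hx, hpx⟩ := Set.mem_iUnion₂.mp (ht hp)
      exact Opens.mem_iSup.mpr ⟨⟨x, hx⟩, hpx⟩)
    (fun x => (D.map g).app _ (u x)) (fun a b => by
      rw [← app_res, ← app_res, ← sub_eq_zero, ← map_sub, ← hψ (a, b), Functor.map_comp,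
        ZClos93.app_comp_apply, hf, map_zero])
  refine ⟨m', s', section_ext' c.pt (fun x : t => W x.1) (fun x => hW x.1) ?_ _ _ fun x => ?_⟩
  · intro p hp
    obtain ⟨x, hx, hpx⟩ := Set.mem_iUnion₂.mp (ht hp)
    exact Opens.mem_iSup.mpr ⟨⟨x, hx⟩, hpx⟩
  · rw [← app_res, hs' x, ← ZClos93.app_comp_apply, c.w, hu]

lemma bijective_stalkMapM_of_forall_affine {M N : X.Modules} (φ : M ⟶ N)
    (h : ∀ W : X.Opens, IsAffineOpen W → Function.Bijective (φ.app W)) (x : X) :
    Function.Bijective (stalkMapM φ x) := by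
  refine ⟨fun a b hab => ?_, fun e => ?_⟩
  · obtain ⟨U, hxU, s, rfl⟩ := germM_exist a
    obtain ⟨V, hxV, t, rfl⟩ := germM_exist b
    rw [stalkMapM_germ, stalkMapM_germ] at hab
    obtain ⟨W', hxW', i₁, i₂, e⟩ := TopCat.Presheaf.germ_eq N.presheaf x hxU hxV _ _ hab
    obtain ⟨_, ⟨A, hA, rfl⟩, hxA, hAW⟩ :=
      X.isBasis_affineOpens.exists_subset_of_mem_open hxW' W'.2
    have hAW' : A ≤ W' := hAW
    rw [← germM_res (hAW'.trans i₁.le) hxA s, ← germM_res (hAW'.trans i₂.le) hxA t]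
    refine congrArg _ ((h A hA).1 ?_)
    rw [app_res, app_res]
    have e' := congrArg (QC70.res N hAW') e
    erw [res_res, res_res] at e'
    exact e'
  · obtain ⟨U, hxU, s, rfl⟩ := germM_exist e
    obtain ⟨_, ⟨A, hA, rfl⟩, hxA, hAU⟩ := X.isBasis_affineOpens.exists_subset_of_mem_open hxU U.2
    have hAU' : A ≤ U := hAU
    obtain ⟨t, ht⟩ := (h A hA).2 (QC70.res N hAU' s)
    exact ⟨germM M A x hxA t, by rw [stalkMapM_germ, ht, germM_res]⟩

/-- A cocone is a colimit as soon as it is one on sections over affine opens. -/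
theorem nonempty_isColimit_of_sections (c : Cocone D)
    (hsurj : ∀ W : X.Opens, IsAffineOpen W → ∀ σ : Γ(c.pt, W),
      ∃ (j : J) (s : Γ(D.obj j, W)), (c.ι.app j).app W s = σ)
    (hinj : ∀ W : X.Opens, IsAffineOpen W → ∀ (j : J) (s : Γ(D.obj j, W)),
      (c.ι.app j).app W s = 0 → ∃ (k : J) (f : j ⟶ k), (D.map f).app W s = 0) :
    Nonempty (IsColimit c) := by
  let θ : colimit D ⟶ c.pt := colimit.desc D c
  have hθ : ∀ (j : J) (W : X.Opens) (s : Γ(D.obj j, W)),
      θ.app W ((colimit.ι D j).app W s) = (c.ι.app j).app W s := fun j W s => by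
    rw [← ZClos93.app_comp_apply, colimit.ι_desc]
  have hb : ∀ W : X.Opens, IsAffineOpen W → Function.Bijective (θ.app W) := by
    intro W hW
    refine ⟨(injective_iff_map_eq_zero _).mpr fun τ hτ => ?_, fun σ => ?_⟩
    · obtain ⟨j, s, rfl⟩ := exists_stage_section (colimit.isColimit D) hW.isCompact
        hW.isQuasiSeparated τ
      obtain ⟨k, f, hk⟩ := hinj W hW j s ((hθ j W s).symm.trans hτ)
      change (colimit.ι D j).app W s = 0
      rw [← colimit.w D f, ZClos93.app_comp_apply, hk, map_zero]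
    · obtain ⟨j, s, rfl⟩ := hsurj W hW σ
      exact ⟨_, hθ j W s⟩
  haveI : IsIso θ :=
    isIso_of_bijective_stalkMapM θ fun x => bijective_stalkMapM_of_forall_affine θ hb x
  haveI : IsIso ((colimit.isColimit D).desc c) := (inferInstance : IsIso θ)
  exact ⟨IsColimit.ofPointIso (colimit.isColimit D)⟩

end Groth.Agent.QCFilt72
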